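import Groth.Agent.S0351
import Groth.Agent.Sga3B.Parab.DynGeom678
import Groth.Agent.Sga3B.Parab.DynFib678
import Groth.Agent.Sga3B.Parab.Func
import Groth.Agent.Sga3B.Parab.EtHom

/-!
# Reductive subgroups of `P_G(λ)` containing `λ` centralise `λ`

`H` a reductive group over `S` with a cocharacter `λ` such that all points of `H` have a limit
(`P_H(λ) = H`).  Then `λ` is central in `H` (`Z_H(λ) = H`).  Consequence: a reductive
sub-group-scheme `K` of `P_G(λ)` containing `λ` is contained in `Z_G(λ)`.
-/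

set_option autoImplicit false

universe u

open CategoryTheory MonoidalCategory CartesianMonoidalCategory MonObj GrpObj AlgebraicGeometry Limits

namespace Groth.Agent.Redsub.H656.RedCent

open Groth.Agent.Sga3B Groth.Agent.Sga3B.Parab

/-- Two morphisms to a trivial group are equal. -/
theorem eq_of_isTrivialGrp {S : Scheme.{u}} {X U : Over S} (h : IsIso U.hom) (x y : X ⟶ U) :
    x = y := by
  apply Over.OverMorphism.ext
  rw [← cancel_mono U.hom, Over.w, Over.w]

section Field

variable {K : Type u} [Field K] [IsAlgClosed K]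

/-- Over an algebraically closed field: a reductive group `H` with `P_H(λ) = H` has
`Z_H(λ) = H`. -/
theorem isDynZ_id_of_isDynP_id {H : Over (Spec (CommRingCat.of K))} [GrpObj H]
    (hH : Red.IsReductiveOver K H) (lam : Red.Gm (Spec (CommRingCat.of K)) ⟶ H) [IsMonHom lam]
    (h : IsDynP lam (𝟙 H)) : IsDynZ lam (𝟙 H) := by
  obtain ⟨h1, h2, h3, h4⟩ := hH
  have h5 : IsAffineHom H.hom := inferInstance
  obtain ⟨U, _, v, hv, hcl⟩ := DynExist998.exists_isDynU lam
  have hvm := hv.isMonHom
  have hn : AlgGrp.IsNormalHom v := DynLevi998.isNormalHom_uP h (by rwa [Category.comp_id])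
  have htriv : IsIso U.hom := h4 U v hv.isClosedImmersion hv.smooth
    (DynGeom678.connectedSpace_isDynU hv) hn (DynGeom678.hasNoSubtorus_isDynU hv)
  rw [DynFib678.isDynZ_id_iff]
  intro X g C _ c x
  obtain ⟨z, w, hz, hw, hzw⟩ := LimEx.exists_levi (lam := lam)
    (((DynFib678.isDynP_id_iff.1 h) X g) C c x)
  obtain ⟨w', hw'⟩ := (hv.iff_ptU _ w).2 (Dyn998.ptU_iff.2 hw)
  have h6 : w' = 1 := eq_of_isTrivialGrp htriv _ _
  have h7 : w = 1 := by rw [← hw', h6, MonObj.one_comp]
  rw [h7, _root_.mul_one] at hzw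
  rwa [← hzw]

end Field

section Base

variable {S : Scheme.{u}}

/-- A reductive group `H` over `S` with a cocharacter `λ` such that `P_H(λ) = H` on the geometric
fibres has `Z_H(λ) = H`. -/
theorem isDynZ_id_of_fibres {H : Over S} [GrpObj H] (hH : Red.IsReductive H)
    (lam : Red.Gm S ⟶ H) [IsMonHom lam]
    (h : ∀ s : S, IsDynP (bcLam lam (Red.geomPt s)) (𝟙 (Red.geomFibre s H))) :
    IsDynZ lam (𝟙 H) := by
  have h1 := hH.1
  have h2 := hH.2.1
  refine DynFib678.isDynZ_id_of_fibres fun s => ⟨AlgebraicClosure (S.residueField s),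
    inferInstance, Red.geomPt s, ?_, ?_⟩
  · rw [Scheme.Hom.comp_apply]
    exact Scheme.fromSpecResidueField_apply _ _
  · exact isDynZ_id_of_isDynP_id (hH.2.2 s) _ (h s)

/-- **A reductive sub-group-scheme of `P_G(λ)` containing `λ` is contained in `Z_G(λ)`.** -/
theorem ptZ_of_isReductive {G P K : Over S} [GrpObj G] [GrpObj P] [GrpObj K]
    [IsAffineHom G.hom] (lam : Red.Gm S ⟶ G) [IsMonHom lam] {p : P ⟶ G} (hp : IsDynP lam p)
    (k : K ⟶ P) [IsMonHom k] (hk : IsImmersion k.left) (hK : Red.IsReductive K)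
    (mu : Red.Gm S ⟶ K) [IsMonHom mu] (hmu : mu ≫ k ≫ p = lam) : PtZ lam (k ≫ p) := by
  have hpm := hp.isMonHom
  have hpcl : IsClosedImmersion p.left := hp.isClosedImmersion
  have h1 : IsDynZ mu (𝟙 K) := by
    refine isDynZ_id_of_fibres hK mu fun s => ?_
    let x := Red.geomPt s
    have hkx : IsImmersion ((Over.pullback x).map k).left :=
      MorphismProperty.of_isPullback (P := @IsImmersion) (EtHom.isPullback_map x k) hk
    have hpx : IsClosedImmersion ((Over.pullback x).map p).left :=
      MorphismProperty.of_isPullback (P := @IsClosedImmersion) (EtHom.isPullback_map x p) hpcl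
    have hkcl : IsClosedImmersion ((Over.pullback x).map k).left :=
      Groth.Agent.S0351.result _ (Red.bc x K) (Red.bc x P) ((Over.pullback x).map k)
    have hkp : IsClosedImmersion ((Over.pullback x).map (k ≫ p)).left := by
      rw [Functor.map_comp, Over.comp_left]
      infer_instance
    have hb : bcLam mu x ≫ (Over.pullback x).map (k ≫ p) = bcLam lam x := by
      rw [← bcLam_comp, hmu]
    rw [DynFib678.isDynP_id_iff]
    intro X g
    rw [← ptP_map_iff ((Over.pullback x).map (k ≫ p)), hb]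
    refine ((hp.bc x).iff_ptP _ _).1 ⟨g ≫ (Over.pullback x).map k, ?_⟩
    rw [Functor.map_comp, Category.assoc]
  have h2 : PtZ mu (𝟙 K) := (DynFib678.isDynZ_id_iff.1 h1) K (𝟙 K)
  have h3 := Func.ptZ_map (lam := mu) (k ≫ p) h2
  rwa [hmu, Category.id_comp] at h3

end Base

end Groth.Agent.Redsub.H656.RedCent
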