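import Groth.Agent.Sga3B.Parab.Uncond688
import Groth.Agent.Sga3B.Parab.PcP
import Groth.Agent.Sga3B.TorusEtSplit
import Groth.Agent.Sga3B.BorTor168

/-!
# A parabolic subgroup containing a given maximal torus

`T ⊆ P ⊆ G`, `G` reductive, `P` parabolic and `T` a maximal torus of `G`.  Étale-locally on the
base `P = P_G(λ)` for a cocharacter `λ` of `T`.
-/

set_option autoImplicit false

universe u

open CategoryTheory MonoidalCategory CartesianMonoidalCategory MonObj GrpObj AlgebraicGeometry Limits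

namespace Groth.Agent.Redsub.H656.LocLam

open Groth.Agent.Sga3B Groth.Agent.Sga3B.Parab

variable {S : Scheme.{u}} {G P T : Over S} [GrpObj G] [GrpObj P] [GrpObj T]

/-- A maximal torus of `G` contained in the subgroup `P` is a maximal torus of `P`. -/
theorem isMaximalTorus_of_comp {p : P ⟶ G} (hpm : IsMonHom p) (hpcl : IsClosedImmersion p.left)
    {t : T ⟶ P} (htm : IsMonHom t) (hT : Red.IsMaximalTorus (t ≫ p)) : Red.IsMaximalTorus t := by
  obtain ⟨h1, h2, h3, h4⟩ := hT
  refine ⟨htm, mono_of_mono t p, h3, fun s T' _ j _ _ f hT' hf => ?_⟩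
  have hpx : IsClosedImmersion ((Over.pullback (Red.geomPt s)).map p).left :=
    Inter.isClosedImmersion_bc (Red.geomPt s) p hpcl
  have hpmono : Mono ((Over.pullback (Red.geomPt s)).map p) := Over.mono_of_mono_left _
  refine h4 s T' (j ≫ (Over.pullback (Red.geomPt s)).map p) f hT' ?_
  rw [← Category.assoc, hf, ← Functor.map_comp]

/-- **Étale-locally `P = P_G(λ)` for a cocharacter `λ` of the given maximal torus `T`.** -/
theorem exists_local (hG : Red.IsReductive G) (p : P ⟶ G) (hp : Red.IsParabolic p) (t : T ⟶ P)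
    [IsMonHom t] (hT : Red.IsMaximalTorus (t ≫ p)) (s : S) :
    ∃ (S' : Scheme.{u}) (f : S' ⟶ S), Etale f ∧ s ∈ Set.range f ∧
      ∃ lam : Red.Gm S' ⟶ Red.bc f T, IsMonHom lam ∧
        (∀ (X : Over S') (a b : X ⟶ Red.bc f T), a * b = b * a) ∧
        IsDynP (lam ≫ (Over.pullback f).map (t ≫ p)) ((Over.pullback f).map p) := by
  have hpm : IsMonHom p := hp.1
  have ht : Red.IsMaximalTorus t := isMaximalTorus_of_comp hp.1 hp.2.1 ‹_› hT
  obtain ⟨B, _, v, r, hv, ⟨s', hs'⟩, ⟨e⟩⟩ := TorusEtSplit.exists_etale_split T hT.2.2.1 s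
  have hvq : LocallyQuasiFinite v := Desc.LQF.of_etale v
  have hG' := RedCover147.isReductive_bc v hG
  have hp' := RedCover147.isParabolic_bc v hp
  have hi : Red.IsMaximalTorus ((Over.pullback v).map t) := AlgBc.isMaximalTorus_bc v ht
  obtain ⟨x, hx⟩ := exists_cochar_geom Uncond688.dynK2 hG' hp' hi e s'
  have hxm := PinTransport.isMonHom_DSmap (S := Spec (CommRingCat.of B)) x
  let lamT : Red.Gm (Spec (CommRingCat.of B)) ⟶ Red.bc v T := Red.DSmap _ x ≫ e.inv.hom.hom
  have hlamT : IsMonHom lamT := by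
    have : IsMonHom e.inv.hom.hom := e.inv.hom.isMonHom_hom
    change IsMonHom (Red.DSmap _ x ≫ e.inv.hom.hom)
    infer_instance
  obtain ⟨U, hsU, hU⟩ := exists_open_isDynP Uncond688.dynK1 Uncond688.dynK2 hG' hp'
    (lamT ≫ (Over.pullback v).map t) s' (by simpa only [lamT, Category.assoc] using hx)
  have h1 : IsDynP (bcLam ((lamT ≫ (Over.pullback v).map t) ≫ (Over.pullback v).map p) U.ι)
      ((Over.pullback U.ι).map ((Over.pullback v).map p)) :=
    hU _ U.ι (by rw [Scheme.Opens.range_ι])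
  refine ⟨U, U.ι ≫ v, inferInstance, ?_,
    bcLam lamT U.ι ≫ (BcIso.bcCompIso U.ι v T).inv.hom.hom, ?_, ?_, ?_⟩
  · obtain ⟨y, hy⟩ : s' ∈ Set.range U.ι := by rw [Scheme.Opens.range_ι]; exact hsU
    exact ⟨y, by rw [Scheme.Hom.comp_apply, hy, hs']⟩
  · have : IsMonHom (BcIso.bcCompIso U.ι v T).inv.hom.hom :=
      (BcIso.bcCompIso U.ι v T).inv.hom.isMonHom_hom
    infer_instance
  · intro X a b
    exact BorTor168.comm_of_split (BcIso.bcCompIso U.ι v T ≪≫ BcIso.bcMapIso U.ι e ≪≫
      TorusAlgClosed.dsBcIso U.ι _) a b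
  · have hψm : IsMonHom (GeomBC147.isoOf (BcIso.bcCompIso U.ι v G).symm).hom :=
      inferInstanceAs (IsMonHom (BcIso.bcCompIso U.ι v G).symm.hom.hom.hom)
    have hn := GeomBC147.symm_w _ _ (GeomFib147.bcCompIso_natural U.ι v p)
    have hnt := GeomBC147.symm_w _ _ (GeomFib147.bcCompIso_natural U.ι v (t ≫ p))
    have hfin := IsDynP.of_iso₂ h1 (GeomBC147.isoOf (BcIso.bcCompIso U.ι v G).symm)
      (q := (Over.pullback (U.ι ≫ v)).map p) (GeomBC147.isoOf (BcIso.bcCompIso U.ι v P).symm)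
      hn.symm
    have h2 : bcLam ((lamT ≫ (Over.pullback v).map t) ≫ (Over.pullback v).map p) U.ι ≫
        (GeomBC147.isoOf (BcIso.bcCompIso U.ι v G).symm).hom =
        (bcLam lamT U.ι ≫ (BcIso.bcCompIso U.ι v T).inv.hom.hom) ≫
          (Over.pullback (U.ι ≫ v)).map (t ≫ p) := by
      rw [Category.assoc, ← Functor.map_comp, bcLam_comp, Category.assoc, Category.assoc]
      congr 1
      exact hnt.symm
    rw [h2] at hfin
    exact hfin

end Groth.Agent.Redsub.H656.LocLam
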