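import Groth.Prelude.Def_RedSub
import Groth.Agent.Redsub.H656.RedCent
import Groth.Agent.Redsub.H656.LocLam
import Groth.Agent.Sga3B.Parab.GlueSub172
import Groth.Agent.Sga3B.Parab.LevZar763
import Groth.Agent.Sga3B.Parab.LeviDesc147
import Groth.Agent.Sga3B.Par.LeviOfDyn383

/-!
# Levi subgroups of a parabolic subgroup containing a given maximal torus

`T ⊆ P ⊆ G`, `G` reductive, `P` parabolic and `T` a maximal torus of `G`.  There is a Levi subgroup
of `P` containing `T`; it contains every reductive subgroup of `P` containing `T`, and it is the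
unique Levi subgroup of `P` containing `T`.
-/

set_option autoImplicit false
set_option linter.unusedSectionVars false

universe u

open CategoryTheory MonoidalCategory CartesianMonoidalCategory MonObj GrpObj AlgebraicGeometry

namespace Groth.Agent.Redsub.H656.LeviUniq

open Groth.Agent.Sga3B Groth.Agent.Sga3B.Parab Groth.Agent.Sga3B.Parab.RedCover147
open Groth.Agent.Sga3B.Parab.GeomFib147 Groth.Agent.Sga3B.Parab.GlueSub172
open Groth.Agent.Sga3B.Parab.ConjPt

variable {S : Scheme.{u}}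

section Semi

variable {L L' U P : Over S} [GrpObj L] [GrpObj L'] [GrpObj U] [GrpObj P]

/-- A Levi subgroup is a closed subgroup. -/
theorem isClosedImmersion_of_isIso_mul {l : L ⟶ P} {u : U ⟶ P} [IsMonHom u]
    (hU : IsSeparated U.hom) (h : IsIso ((l ⊗ₘ u) ≫ μ[P])) : IsClosedImmersion l.left := by
  have h1 : l = lift (𝟙 L) 1 ≫ (l ⊗ₘ u) ≫ μ[P] := by
    rw [← Category.assoc, lift_map, ← Hom.mul_def, Category.id_comp, MonObj.one_comp, _root_.mul_one]
  have h2 : IsClosedImmersion (lift (𝟙 L) (1 : L ⟶ U)).left := by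
    have h3 : IsSeparated (fst L U).left :=
      MorphismProperty.pullback_fst (P := @IsSeparated) _ _ hU
    have h4 : (lift (𝟙 L) (1 : L ⟶ U)).left ≫ (fst L U).left = 𝟙 _ := by
      rw [← Over.comp_left, lift_fst]
      rfl
    have h5 : IsClosedImmersion ((lift (𝟙 L) (1 : L ⟶ U)).left ≫ (fst L U).left) := by
      rw [h4]
      infer_instance
    exact IsClosedImmersion.of_comp _ (fst L U).left
  have h6 : IsIso ((l ⊗ₘ u) ≫ μ[P]).left :=
    inferInstanceAs (IsIso ((Over.forget S).map ((l ⊗ₘ u) ≫ μ[P])))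
  rw [h1, Over.comp_left]
  infer_instance

/-- An inclusion between two complements of the same subgroup is an isomorphism. -/
theorem isIso_of_fac {l : L ⟶ P} {l' : L' ⟶ P} {u : U ⟶ P} (h : IsIso ((l ⊗ₘ u) ≫ μ[P]))
    (h' : IsIso ((l' ⊗ₘ u) ≫ μ[P])) (m : L' ⟶ L) (hm : m ≫ l = l') : IsIso m := by
  have h1 : (m ⊗ₘ 𝟙 U) ≫ (l ⊗ₘ u) ≫ μ[P] = (l' ⊗ₘ u) ≫ μ[P] := by
    rw [tensorHom_comp_tensorHom_assoc, Category.id_comp, hm]
  have h2 : IsIso (m ⊗ₘ 𝟙 U) := by
    have : IsIso ((m ⊗ₘ 𝟙 U) ≫ (l ⊗ₘ u) ≫ μ[P]) := by rw [h1]; exact h'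
    exact IsIso.of_isIso_comp_right (m ⊗ₘ 𝟙 U) ((l ⊗ₘ u) ≫ μ[P])
  refine ⟨lift (𝟙 L) 1 ≫ inv (m ⊗ₘ 𝟙 U) ≫ fst _ _, ?_, ?_⟩
  · have h3 : m ≫ lift (𝟙 L) (1 : L ⟶ U) = lift (𝟙 L') 1 ≫ (m ⊗ₘ 𝟙 U) := by
      rw [comp_lift, lift_map, Category.comp_id, Category.id_comp, Category.comp_id,
        MonObj.comp_one]
    rw [reassoc_of% h3, IsIso.hom_inv_id_assoc, lift_fst]
  · have h4 : fst L' U ≫ m = (m ⊗ₘ 𝟙 U) ≫ fst L U := (tensorHom_fst _ _).symm
    rw [Category.assoc, Category.assoc, h4, IsIso.inv_hom_id_assoc, lift_fst]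

end Semi

section Iso

variable {L L' P : Over S} [GrpObj L] [GrpObj L'] [GrpObj P]

/-- Transport of Levi subgroups along isomorphisms. -/
theorem isLevi_of_iso {l : L ⟶ P} {l' : L' ⟶ P} [IsMonHom l'] (h : Par.IsLevi l) (e : L' ≅ L)
    (he : e.hom ≫ l = l') : Par.IsLevi l' := by
  obtain ⟨h1, h2, h3, U, _, u, hu, hiso⟩ := h
  have hem : IsMonHom e.hom := by
    have : IsMonHom (e.hom ≫ l) := by rw [he]; infer_instance
    exact DynLevi998.isMonHom_of_comp_mono (p := l)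
  refine ⟨inferInstance, ?_, AlgBc.isReductive_of_iso (Grp.mkIso' e).symm h3, U, inferInstance, u,
    hu, ?_⟩
  · rw [← he]
    infer_instance
  · have h4 : (l' ⊗ₘ u) ≫ μ[P] = (e.hom ⊗ₘ 𝟙 U) ≫ (l ⊗ₘ u) ≫ μ[P] := by
      rw [tensorHom_comp_tensorHom_assoc, Category.id_comp, he]
    rw [h4]
    infer_instance

end Iso

section Loc

variable {G P T : Over S} [GrpObj G] [GrpObj P] [GrpObj T]

/-- The local data: a cocharacter of `T` with `P = P_G(λ)`. -/
structure Dat (p : P ⟶ G) (t : T ⟶ P) {S' : Scheme.{u}} (f : S' ⟶ S) where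
  /-- the cocharacter -/
  lam : Red.Gm S' ⟶ Red.bc f T
  monHom : IsMonHom lam
  comm : ∀ (X : Over S') (a b : X ⟶ Red.bc f T), a * b = b * a
  dynP : IsDynP (lam ≫ (Over.pullback f).map (t ≫ p)) ((Over.pullback f).map p)

attribute [instance] Dat.monHom

variable {p : P ⟶ G} {t : T ⟶ P} {S' : Scheme.{u}} {f : S' ⟶ S}

/-- `T` centralises a cocharacter of `T`. -/
theorem Dat.ptZ_t [IsMonHom p] [IsMonHom t] (D : Dat p t f) :
    PtZ (D.lam ≫ (Over.pullback f).map (t ≫ p)) ((Over.pullback f).map (t ≫ p)) := by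
  have h1 : PtZ D.lam (𝟙 (Red.bc f T)) := by
    intro C _ c x
    rw [OrbConst, orb, D.comm, ← _root_.mul_assoc, inv_mul_cancel, _root_.one_mul]
  have h2 := Func.ptZ_map (lam := D.lam) ((Over.pullback f).map (t ≫ p)) h1
  rwa [Category.id_comp] at h2

/-- The local Levi subgroup `Z_G(λ)`. -/
theorem Dat.exists_levi [IsMonHom p] [IsMonHom t] [LocallyQuasiFinite f] (D : Dat p t f)
    (hG : Red.IsReductive G) :
    ∃ (Z : Over S') (_ : GrpObj Z) (z : Z ⟶ Red.bc f P),
      IsDynZ (D.lam ≫ (Over.pullback f).map (t ≫ p)) (z ≫ (Over.pullback f).map p) ∧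
        Par.IsLevi z := by
  obtain ⟨U, Z, _, _, u, z, hu, hz, -, -, h⟩ := Par.LeviOfDyn383.exists_all DynGeom678.dynGeomU
    Uncond688.dynK1 K3b143.dynK3 (isReductive_bc f hG)
    (D.lam ≫ (Over.pullback f).map (t ≫ p)) _ D.dynP
  exact ⟨Z, inferInstance, z, hz, h⟩

/-- Reductive subgroups of `P` containing `T` are contained in the local Levi subgroup. -/
theorem Dat.exists_fac [IsMonHom p] [IsMonHom t] [LocallyQuasiFinite f] (D : Dat p t f)
    (hG : Red.IsReductive G) {Z : Over S'} [GrpObj Z] {z : Z ⟶ Red.bc f P}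
    (hz : IsDynZ (D.lam ≫ (Over.pullback f).map (t ≫ p)) (z ≫ (Over.pullback f).map p))
    {K : Over S'} [GrpObj K] (k : K ⟶ Red.bc f P) [IsMonHom k] (hk : IsImmersion k.left)
    (hK : Red.IsReductive K) (tk : Red.bc f T ⟶ K) (htk : tk ≫ k = (Over.pullback f).map t) :
    ∃ x : K ⟶ Z, x ≫ z = k := by
  have hG' := isReductive_bc f hG
  have := hG'.1
  have := D.dynP.mono
  have hkm : Mono k := Over.mono_of_mono_left k
  have htkm : IsMonHom tk := by
    have : IsMonHom (tk ≫ k) := by rw [htk]; infer_instance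
    exact DynLevi998.isMonHom_of_comp_mono (p := k)
  have h1 := RedCent.ptZ_of_isReductive (D.lam ≫ (Over.pullback f).map (t ≫ p)) D.dynP k hk hK
    (D.lam ≫ tk) (by rw [Category.assoc, ← Category.assoc tk, htk, ← Functor.map_comp])
  obtain ⟨x, hx⟩ := (hz.iff_ptZ _ _).2 h1
  exact ⟨x, by rw [← cancel_mono ((Over.pullback f).map p), Category.assoc, hx]⟩

/-- The local data are stable under base change (any morphism). -/
theorem agree [IsMonHom p] [IsMonHom t] (hG : Red.IsReductive G)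
    {S₁ S₂ : Scheme.{u}} {f₁ : S₁ ⟶ S} {f₂ : S₂ ⟶ S} [Etale f₁] [Etale f₂]
    (D₁ : Dat p t f₁) (D₂ : Dat p t f₂)
    {Z₁ : Over S₁} [GrpObj Z₁] {z₁ : Z₁ ⟶ Red.bc f₁ P}
    (hz₁ : IsDynZ (D₁.lam ≫ (Over.pullback f₁).map (t ≫ p)) (z₁ ≫ (Over.pullback f₁).map p))
    (hl₁ : Par.IsLevi z₁)
    {Z₂ : Over S₂} [GrpObj Z₂] {z₂ : Z₂ ⟶ Red.bc f₂ P}
    (hz₂ : IsDynZ (D₂.lam ≫ (Over.pullback f₂).map (t ≫ p)) (z₂ ≫ (Over.pullback f₂).map p))
    (hcl₁ : IsClosedImmersion z₁.left)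
    {Z : Over S} (g : Z ⟶ P) (w₁ : Z ⟶ Over.mk f₁) (w₂ : Z ⟶ Over.mk f₂)
    (hg : Mem (qt f₁ z₁) (lift g w₁)) : Mem (qt f₂ z₂) (lift g w₂) := by
  have h : IsPullback (Limits.pullback.fst f₁ f₂) (Limits.pullback.snd f₁ f₂) f₁ f₂ :=
    IsPullback.of_hasPullback f₁ f₂
  have ha : Etale (Limits.pullback.fst f₁ f₂) := inferInstance
  have hb : Etale (Limits.pullback.snd f₁ f₂) := inferInstance
  generalize Limits.pullback.fst f₁ f₂ = a at h ha
  generalize Limits.pullback.snd f₁ f₂ = b at h hb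
  have hza : IsMonHom z₁ := hl₁.1
  have hqa := Desc.LQF.of_etale a
  have hqb := Desc.LQF.of_etale b
  have hq2 := Desc.LQF.of_etale f₂
  have hP := D₂.dynP.bc b
  have hZ := hz₂.bc b
  have hPm := hP.mono
  have hGb := (isReductive_bc b (isReductive_bc f₂ hG))
  have hGba := hGb.1
  have hsT : IsMonHom (sqIso h.w T).inv.hom.hom := (sqIso h.w T).inv.hom.isMonHom_hom
  have hsP : IsMonHom (sqIso h.w P).hom.hom.hom := (sqIso h.w P).hom.hom.isMonHom_hom
  have hsPi : IsIso (sqIso h.w P).hom.hom.hom := ((Grp.forget _).mapIso (sqIso h.w P)).isIso_hom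
  obtain ⟨τ, hτ⟩ := (hz₁.iff_ptZ _ _).2 D₁.ptZ_t
  have hτ' : τ ≫ z₁ = (Over.pullback f₁).map t := by
    have := D₁.dynP.mono
    rw [← cancel_mono ((Over.pullback f₁).map p), Category.assoc, hτ, Functor.map_comp]
  have hτm : IsMonHom τ := by
    have : Mono z₁ := hl₁.2.1
    have : IsMonHom (τ ≫ z₁) := by rw [hτ']; infer_instance
    exact DynLevi998.isMonHom_of_comp_mono (p := z₁)
  let k : Red.bc a Z₁ ⟶ Red.bc b (Red.bc f₂ P) :=
    (Over.pullback a).map z₁ ≫ (sqIso h.w P).hom.hom.hom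
  have hkm : IsMonHom k := by
    change IsMonHom ((Over.pullback a).map z₁ ≫ (sqIso h.w P).hom.hom.hom)
    infer_instance
  have hkl : IsImmersion k.left := by
    have h1 : IsClosedImmersion ((Over.pullback a).map z₁).left := isClosedImmersion_bc a hcl₁
    have h2 : IsIso (sqIso h.w P).hom.hom.hom.left :=
      inferInstanceAs (IsIso ((Over.forget _).map (sqIso h.w P).hom.hom.hom))
    change IsImmersion ((Over.pullback a).map z₁ ≫ (sqIso h.w P).hom.hom.hom).left
    rw [Over.comp_left]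
    infer_instance
  let mu : Red.Gm _ ⟶ Red.bc a Z₁ :=
    bcLam D₂.lam b ≫ (sqIso h.w T).inv.hom.hom ≫ (Over.pullback a).map τ
  have hmum : IsMonHom mu := by
    change IsMonHom (bcLam D₂.lam b ≫ (sqIso h.w T).inv.hom.hom ≫ (Over.pullback a).map τ)
    infer_instance
  have hmu : mu ≫ k ≫ (Over.pullback b).map ((Over.pullback f₂).map p) =
      bcLam (D₂.lam ≫ (Over.pullback f₂).map (t ≫ p)) b := by
    have h3 := sqIso_natural h.w t
    have h4 : (sqIso h.w T).inv.hom.hom ≫ (sqIso h.w T).hom.hom.hom = 𝟙 _ :=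
      GeomBC147.inv_hom (sqIso h.w T)
    have h5 : (sqIso h.w T).inv.hom.hom ≫ (Over.pullback a).map τ ≫ k =
        (Over.pullback b).map ((Over.pullback f₂).map t) := by
      change (sqIso h.w T).inv.hom.hom ≫ (Over.pullback a).map τ ≫ (Over.pullback a).map z₁ ≫
        (sqIso h.w P).hom.hom.hom = _
      rw [← Functor.map_comp_assoc, hτ', ← h3, ← Category.assoc, h4, Category.id_comp]
    change (bcLam D₂.lam b ≫ (sqIso h.w T).inv.hom.hom ≫ (Over.pullback a).map τ) ≫ k ≫ _ = _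
    simp only [Category.assoc]
    rw [bcLam_comp, Functor.map_comp, Functor.map_comp, ← h5]
    simp only [Category.assoc]
  have hK : Red.IsReductive (Red.bc a Z₁) := isReductive_bc a hl₁.2.2.1
  have h6 := RedCent.ptZ_of_isReductive _ hP k hkl hK mu hmu
  obtain ⟨x, hx⟩ := (hZ.iff_ptZ _ _).2 h6
  refine mem_of_iso h z₁ z₂ x ?_ g w₁ w₂ hg
  rw [← cancel_mono ((Over.pullback b).map ((Over.pullback f₂).map p)), Category.assoc,
    ← Functor.map_comp, hx]

end Loc

section Main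

variable {G P T : Over S} [GrpObj G] [GrpObj P] [GrpObj T]

/-- **Levi subgroups containing a maximal torus.** -/
theorem main (hG : Red.IsReductive G) (p : P ⟶ G) (hP : Red.IsParabolic p) (t : T ⟶ P)
    [IsMonHom t] (hT : Red.IsMaximalTorus (t ≫ p)) :
    ∃ (L : Over S) (_ : GrpObj L) (l : L ⟶ P) (tl : T ⟶ L), Par.IsLevi l ∧ tl ≫ l = t ∧
      (∀ (K : Over S) [GrpObj K] (k : K ⟶ P) (tk : T ⟶ K),
        RedSub.IsSubgrp k → Red.IsReductive K → tk ≫ k = t → ∃ m : K ⟶ L, m ≫ l = k) ∧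
      (∀ (L' : Over S) [GrpObj L'] (l' : L' ⟶ P) (tl' : T ⟶ L'),
        Par.IsLevi l' → tl' ≫ l' = t → ∃ e : L' ≅ L, e.hom ≫ l = l') := by
  have hpm : IsMonHom p := hP.1
  have hpcl : IsClosedImmersion p.left := hP.2.1
  have hGa := hG.1
  have hPa : IsAffineHom P.hom := isAffineHom_of_closed p hpcl hGa
  obtain ⟨J, S', f, he, hcov, hQ⟩ := exists_isEtCov (Q := fun S' f =>
    Nonempty (Dat p t f)) (fun s => by
      obtain ⟨S', f, h1, h2, lam, h3, h4, h5⟩ := LocLam.exists_local hG p hP t hT s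
      exact ⟨S', f, h1, h2, ⟨⟨lam, h3, h4, h5⟩⟩⟩)
  have D : ∀ i, Dat p t (f i) := fun i => (hQ i).some
  have hqf := hcov.qf
  have hex : ∀ i, ∃ (Z : Over (S' i)) (_ : GrpObj Z) (z : Z ⟶ Red.bc (f i) P),
      IsDynZ ((D i).lam ≫ (Over.pullback (f i)).map (t ≫ p)) (z ≫ (Over.pullback (f i)).map p) ∧
        Par.IsLevi z := fun i => (D i).exists_levi hG
  choose Z iZ z hz hlev using hex
  have hzcl : ∀ i, IsClosedImmersion (z i).left := fun i => by
    have hGi := isReductive_bc (f i) hG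
    have := hGi.1
    have h1 : IsClosedImmersion (z i ≫ (Over.pullback (f i)).map p).left :=
      (hz i).isClosedImmersion
    rw [Over.comp_left] at h1
    have := isClosedImmersion_bc (f i) hpcl
    exact IsClosedImmersion.of_comp (z i).left ((Over.pullback (f i)).map p).left
  obtain ⟨L, _, l, hlm, hlcl, hle⟩ := exists_glue (G := P) (q := z) hcov.cov
    (fun i => (hlev i).1) hzcl (fun i j Z g w w' hg =>
      agree hG (D i) (D j) (hz i) (hlev i) (hz j) (hzcl i) g w w' hg)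
  have hlmono : Mono l := Over.mono_of_mono_left l
  have hL : Par.IsLevi l := LeviDesc147.isLevi_of_cover hcov Uncond688.radPcU Uncond688.radPcP he
    hG hP hlm (fun i => by
      obtain ⟨e, he⟩ := hle i
      exact isLevi_of_iso (hlev i) e he)
  have hfac : ∀ (K : Over S) [GrpObj K] (k : K ⟶ P) (tk : T ⟶ K),
      RedSub.IsSubgrp k → Red.IsReductive K → tk ≫ k = t → ∃ m : K ⟶ L, m ≫ l = k := by
    intro K _ k tk hk hK htk
    have hkm := hk.1
    refine LevZar763.exists_factor_of_cover hcov k fun i => ?_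
    obtain ⟨x, hx⟩ := (D i).exists_fac hG (hz i) ((Over.pullback (f i)).map k)
      (MorphismProperty.of_isPullback (P := @IsImmersion) (EtHom.isPullback_map (f i) k) hk.2)
      (isReductive_bc (f i) hK) ((Over.pullback (f i)).map tk) (by rw [← Functor.map_comp, htk])
    obtain ⟨e, he⟩ := hle i
    exact ⟨x ≫ e.inv, by rw [← he, Category.assoc, Iso.inv_hom_id_assoc, hx]⟩
  obtain ⟨tl, htl⟩ : ∃ tl : T ⟶ L, tl ≫ l = t := by
    refine LevZar763.exists_factor_of_cover hcov t fun i => ?_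
    obtain ⟨e, he⟩ := hle i
    obtain ⟨τ, hτ⟩ := ((hz i).iff_ptZ _ _).2 (D i).ptZ_t
    refine ⟨τ ≫ e.inv, ?_⟩
    have := (D i).dynP.mono
    rw [← he, Category.assoc, Iso.inv_hom_id_assoc,
      ← cancel_mono ((Over.pullback (f i)).map p), Category.assoc, hτ, Functor.map_comp]
  refine ⟨L, inferInstance, l, tl, hL, htl, hfac, fun L' _ l' tl' hl' htl' => ?_⟩
  obtain ⟨h1, h2, h3, U, _, u, hu, hiso⟩ := id hl'
  have hum := hu.1
  have hucl := hu.2.1
  have hUa : IsAffineHom U.hom := isAffineHom_of_closed u hucl hPa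
  have hl'cl : IsClosedImmersion l'.left := isClosedImmersion_of_isIso_mul inferInstance hiso
  obtain ⟨m, hm⟩ := hfac L' l' tl' ⟨h1, inferInstance⟩ h3 htl'
  have hmi : IsIso m := isIso_of_fac (LevZar763.isIso_mul_of_isLevi hL hu) hiso m hm
  exact ⟨asIso m, hm⟩

end Main

end Groth.Agent.Redsub.H656.LeviUniq
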